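import Mathlib
import Cfsg.Agent.Lib.Helper46.FP.Defs
import Cfsg.Agent.Lib.Helper64.FP.Ctx
import Cfsg.Agent.Lib.Helper47.Subn
import Cfsg.Agent.Lib.Helper47.Large
import Cfsg.Agent.Lib.Helper1.FittingPrimary
import Cfsg.Agent.S0044

/-!
# S3814 team project, package P9 (PkgD): steps D4, D5 and the "iterate commutators" trick
-/

set_option autoImplicit false

namespace Cfsg.Agent.Lib.Helper64.FP

open Cfsg.Agent.Lib.Helper46.FP

universe u

section gen

variable {G : Type u} [Group G]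

/-- `H` normalizes `O_q(H)` elementwise -/
theorem pCoreOf_conj (q : ℕ) {H : Subgroup G} {h x : G} (hh : h ∈ H)
    (hx : x ∈ Cfsg.pCoreOf q H) : h * x * h⁻¹ ∈ Cfsg.pCoreOf q H := by
  have h1 := Cfsg.Agent.Lib.Helper47.le_normalizer_pCoreOf q H hh
  exact (Subgroup.mem_normalizer_iff.1 h1 x).1 hx

/-- `O_b(H)` contains no `C_b × C_b` -/
def NoCC (b : ℕ) (H : Subgroup G) : Prop :=
  ∀ y ∈ Cfsg.pCoreOf b H, ∀ y' ∈ Cfsg.pCoreOf b H, orderOf y = b → orderOf y' = b →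
    y * y' = y' * y → y' ∈ Subgroup.zpowers y

/-- (FIT) in a finite solvable group `H`, an element of prime order `b` centralizing every
`O_q(H)` lies in `O_b(H)`. -/
theorem fit_tool [Finite G] {H : Subgroup G} (hsolv : Group.IsSolvable H) {b : ℕ}
    (hb : b.Prime) {y : G} (hy : y ∈ H) (hyb : y ^ b = 1)
    (hcent : ∀ q : ℕ, q.Prime → ∀ x ∈ Cfsg.pCoreOf q H, y * x = x * y) :
    y ∈ Cfsg.pCoreOf b H := by
  have : Fact b.Prime := ⟨hb⟩
  have h1 : Cfsg.fittingSubgroup H ≤ Subgroup.centralizer ({⟨y, hy⟩} : Set H) := by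
    apply Cfsg.Agent.Lib.Helper1.fitting_le_of_pCore_le
    intro q hq x hx
    rw [Subgroup.mem_centralizer_singleton_iff]
    apply Subtype.ext
    have h2 := hcent q hq (x : G) ⟨x, hx, rfl⟩
    exact h2.symm
  have h3 : (⟨y, hy⟩ : H) ∈ Subgroup.centralizer (Cfsg.fittingSubgroup H : Set H) := by
    rw [Subgroup.mem_centralizer_iff]
    intro x hx
    have h4 := h1 hx
    rw [Subgroup.mem_centralizer_singleton_iff] at h4
    exact h4
  have h5 := Cfsg.Agent.S0044.result h3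
  have h6 := Cfsg.Agent.Lib.Helper1.mem_pCore_of_mem_fitting (q := b) (⟨y, hy⟩ : H) h5 1 (by
    apply Subtype.ext
    rw [pow_one]
    simpa using hyb)
  exact ⟨⟨y, hy⟩, h6, rfl⟩

/-- iterating `g ↦ [g, y]` in the `b`-group `B⟨y⟩`: if `y` does not centralize `B` there is
`g ∈ B` not commuting with `y` such that `[g, y]` commutes with `y`. -/
theorem exists_comm_step [Finite G] {b : ℕ} (hb : b.Prime) {B : Subgroup G}
    (hB : IsPGroup b B) {y : G} (hyb : orderOf y = b) (hyB : ∀ x ∈ B, y * x * y⁻¹ ∈ B)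
    {g0 : G} (hg0 : g0 ∈ B) (hg0y : g0 * y ≠ y * g0) :
    ∃ g ∈ B, g * y ≠ y * g ∧ (g * y * g⁻¹ * y⁻¹) * y = y * (g * y * g⁻¹ * y⁻¹) := by
  have : Fact b.Prime := ⟨hb⟩
  have hzy : IsPGroup b (Subgroup.zpowers y) :=
    IsPGroup.of_card (n := 1) (by rw [Nat.card_zpowers, hyb, pow_one])
  have hnorm : Subgroup.zpowers y ≤ Subgroup.normalizer (B : Set G) := by
    rw [Subgroup.zpowers_le]
    exact Cfsg.Agent.Lib.Helper97.FP.mem_normalizer_of_conj_mem B y hyB
  have hQ0 : IsPGroup b (Subgroup.zpowers y ⊔ B : Subgroup G) :=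
    IsPGroup.to_sup_of_normal_right' hzy hB hnorm
  obtain ⟨Q, hQdef⟩ : ∃ Q : Subgroup G, Q = Subgroup.zpowers y ⊔ B := ⟨_, rfl⟩
  rw [← hQdef] at hQ0
  have hyQ : y ∈ Q := by
    rw [hQdef]; exact (le_sup_left : Subgroup.zpowers y ≤ _) (Subgroup.mem_zpowers y)
  have hBQ : B ≤ Q := by rw [hQdef]; exact le_sup_right
  have hnil : Group.IsNilpotent Q := hQ0.isNilpotent
  obtain ⟨k, hk⟩ := (Subgroup.isNilpotent_iff_lowerCentralSeries Q).1 hnil
  obtain ⟨f, hf⟩ : ∃ f : G → G, ∀ g, f g = g * y * g⁻¹ * y⁻¹ := ⟨fun g => g * y * g⁻¹ * y⁻¹,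
    fun _ => rfl⟩
  have hfB : ∀ g ∈ B, f g ∈ B := by
    intro g hg
    have h1 : f g = g * (y * g⁻¹ * y⁻¹) := by rw [hf]; group
    rw [h1]; exact B.mul_mem hg (hyB _ (B.inv_mem hg))
  have hitB : ∀ i : ℕ, f^[i] g0 ∈ B := by
    intro i
    induction i with
    | zero => exact hg0
    | succ i ih => rw [Function.iterate_succ_apply']; exact hfB _ ih
  have hlcs : ∀ i : ℕ, f^[i] g0 ∈ Q.lowerCentralSeries i := by
    intro i
    induction i with
    | zero => exact hBQ hg0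
    | succ i ih =>
      rw [Function.iterate_succ_apply', hf, Subgroup.lowerCentralSeries_succ]
      have h1 := Subgroup.commutator_mem_commutator ih hyQ
      rw [commutatorElement_def] at h1
      exact h1
  have hend : f^[k] g0 = 1 := by
    have h1 := hlcs k
    rw [hk, Subgroup.mem_bot] at h1
    exact h1
  have hex : ∃ i : ℕ, f^[i] g0 * y = y * f^[i] g0 := ⟨k, by rw [hend, one_mul, mul_one]⟩
  classical
  obtain ⟨i0, hi0def⟩ : ∃ i0 : ℕ, i0 = Nat.find hex := ⟨_, rfl⟩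
  have hi0 : f^[i0] g0 * y = y * f^[i0] g0 := by rw [hi0def]; exact Nat.find_spec hex
  have hi0pos : i0 ≠ 0 := by
    intro h
    rw [h] at hi0
    exact hg0y hi0
  obtain ⟨j, hj⟩ := Nat.exists_eq_succ_of_ne_zero hi0pos
  have hjlt : ¬ (f^[j] g0 * y = y * f^[j] g0) :=
    Nat.find_min hex (by rw [← hi0def, hj]; exact Nat.lt_succ_self j)
  refine ⟨f^[j] g0, hitB j, hjlt, ?_⟩
  have h1 : f (f^[j] g0) = f^[i0] g0 := by rw [hj, Function.iterate_succ_apply']
  rw [← hf, h1]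
  exact hi0

end gen

namespace DCtx

variable {G : Type u} [Group G] {V H : Subgroup G} {t : ℕ} {π : Finset ℕ} {a b c : ℕ}
  {n m za zb : G}

theorem nP (d : DCtx V H t π a b c n m za zb) : IsPGroup a (Subgroup.zpowers n) := by
  have := d.hc.fin
  have : Fact a.Prime := ⟨d.ap⟩
  exact IsPGroup.of_card (n := 1) (by rw [Nat.card_zpowers, d.hna, pow_one])

theorem mP (d : DCtx V H t π a b c n m za zb) : IsPGroup b (Subgroup.zpowers m) := d.symm.nP

theorem m_mem_B (d : DCtx V H t π a b c n m za zb) : m ∈ Cfsg.pCoreOf b H := by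
  have := d.hc.fin
  have hle : H ≤ Subgroup.normalizer (Subgroup.zpowers m : Set G) := fun h hh =>
    Cfsg.Agent.Lib.Helper97.FP.mem_normalizer_of_conj_mem _ h (d.hmN.2 h hh)
  exact Cfsg.Agent.Lib.Helper47.le_pCoreOf_of_le_normalizer d.mP d.hmN.1 hle
    (Subgroup.mem_zpowers m)

/-- `m` is central in `O_b(H)` -/
theorem B_cent_m (d : DCtx V H t π a b c n m za zb) {g : G} (hg : g ∈ Cfsg.pCoreOf b H) :
    g * m = m * g := by
  have : Fact b.Prime := ⟨d.bp⟩
  obtain ⟨k, hk⟩ := (Cfsg.Agent.Lib.Helper47.pCoreOf_isPGroup b H) ⟨g, hg⟩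
  have hk' : g ^ b ^ k = 1 := by simpa using congrArg Subtype.val hk
  have hcop : (b ^ k).Coprime (b - 1) := by
    apply Nat.Coprime.pow_left
    rw [Nat.Prime.coprime_iff_not_dvd d.bp]
    exact Nat.not_dvd_of_pos_of_lt (Nat.sub_pos_of_lt d.bp.one_lt)
      (Nat.sub_lt d.bp.pos Nat.one_pos)
  exact commute_of_conj_mem_zpowers d.bp d.hmb
    (d.hmN.2 g (Cfsg.Agent.Lib.Helper47.pCoreOf_le b H hg) m (Subgroup.mem_zpowers m)) hk' hcop

/-- if `O_b(H)` has no `C_b × C_b`, its elements of order `b` lie in `⟨m⟩` -/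
theorem B_order_b (d : DCtx V H t π a b c n m za zb) (hnoB : NoCC b H) {y : G}
    (hy : y ∈ Cfsg.pCoreOf b H) (hyb : orderOf y = b) : y ∈ Subgroup.zpowers m :=
  hnoB m d.m_mem_B y hy d.hmb hyb (d.B_cent_m hy).symm

/-- D5: `O_q(H) = 1` for `q ≠ a, b` -/
theorem core_other (d : DCtx V H t π a b c n m za zb) {q : ℕ} (hq : q.Prime) (hqa : q ≠ a)
    (hqb : q ≠ b) {x : G} (hx : x ∈ Cfsg.pCoreOf q H) : x = 1 := by
  have := d.hc.fin
  have : Fact q.Prime := ⟨hq⟩
  have : Fact a.Prime := ⟨d.ap⟩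
  have : Fact b.Prime := ⟨d.bp⟩
  by_contra hx1
  have hKp := Cfsg.Agent.Lib.Helper47.pCoreOf_isPGroup q H
  obtain ⟨k, hk⟩ := hKp ⟨x, hx⟩
  have hk' : x ^ q ^ k = 1 := by simpa using congrArg Subtype.val hk
  obtain ⟨j, hj⟩ := Cfsg.Agent.Lib.Helper24.FP.exists_pow_orderOf_eq hq hx1 k hk'
  have hxjK : x ^ j ∈ Cfsg.pCoreOf q H := Subgroup.pow_mem _ hx j
  have hxjH : x ^ j ∈ H := Cfsg.Agent.Lib.Helper47.pCoreOf_le q H hxjK
  have hqH : q ∣ Nat.card H := by
    have h1 : orderOf (⟨x ^ j, hxjH⟩ : H) = q := by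
      rw [← Subgroup.orderOf_coe]; exact hj
    rw [← h1]; exact orderOf_dvd_natCard _
  have hqc : q = c := by
    rcases d.pi_cases (d.hc.Hpi q hq hqH) with h | h | h
    · exact (hqa h).elim
    · exact (hqb h).elim
    · exact h
  have hcn : x ^ j * n = n * x ^ j :=
    commute_of_disjoint_norm (IsPGroup.disjoint_of_ne q a hqa _ _ hKp d.nP) hxjK
      (Subgroup.mem_zpowers n) (fun k hk => pCoreOf_conj q d.hn hk) (d.hnN.2 _ hxjH)
  have hcm : x ^ j * m = m * x ^ j :=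
    commute_of_disjoint_norm (IsPGroup.disjoint_of_ne q b hqb _ _ hKp d.mP) hxjK
      (Subgroup.mem_zpowers m) (fun k hk => pCoreOf_conj q d.hm hk) (d.hmN.2 _ hxjH)
  exact d.no_c_cent (hj.trans hqc) hcn hcm

/-- D6, second half: an element of order `b` of `H` without fixed points on `V` centralizes
`O_b(H)`, when `O_b(H)` has no `C_b × C_b`. -/
theorem cent_B (d : DCtx V H t π a b c n m za zb) (hnoB : NoCC b H) {y : G} (hy : y ∈ H)
    (hyb : orderOf y = b) (hyF : ¬ Fx V y) : ∀ x ∈ Cfsg.pCoreOf b H, y * x = x * y := by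
  have := d.hc.fin
  have : Fact b.Prime := ⟨d.bp⟩
  by_contra hcon
  push Not at hcon
  obtain ⟨g0, hg0, hg0y⟩ := hcon
  have hBp := Cfsg.Agent.Lib.Helper47.pCoreOf_isPGroup b H
  obtain ⟨g, hg, hgy, hw⟩ := exists_comm_step d.bp hBp hyb (fun x hx => pCoreOf_conj b hy hx)
    hg0 (fun h => hg0y h.symm)
  obtain ⟨w, hwdef⟩ : ∃ w : G, w = g * y * g⁻¹ * y⁻¹ := ⟨_, rfl⟩
  rw [← hwdef] at hw
  have hwB : w ∈ Cfsg.pCoreOf b H := by
    rw [hwdef]
    have h1 : g * y * g⁻¹ * y⁻¹ = g * (y * g⁻¹ * y⁻¹) := by group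
    rw [h1]; exact Subgroup.mul_mem _ hg (pCoreOf_conj b hy (Subgroup.inv_mem _ hg))
  have hgyg : g * y * g⁻¹ = w * y := by rw [hwdef]; group
  have hw1 : w ≠ 1 := by
    intro h
    rw [h, one_mul] at hgyg
    apply hgy
    calc g * y = (g * y * g⁻¹) * g := by group
      _ = y * g := by rw [hgyg]
  have hyb1 : y ^ b = 1 := by rw [← hyb]; exact pow_orderOf_eq_one y
  have hwb : w ^ b = 1 := by
    have h1 : (w * y) ^ b = 1 := by rw [← hgyg, conj_pow, hyb1]; group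
    rw [(show Commute w y from hw).mul_pow, hyb1, mul_one] at h1
    exact h1
  have hwo : orderOf w = b := orderOf_eq_prime hwb hw1
  have hwm : w ∈ Subgroup.zpowers m := d.B_order_b hnoB hwB hwo
  have hmw : m ∈ Subgroup.zpowers w :=
    Cfsg.Agent.Lib.Helper37.FP.mem_zpowers_of_prime_order (by rw [d.hmb]; exact d.bp) hwm hw1
  have hgw : g * w = w * g := commute_of_mem_zpowers (d.B_cent_m hg) hwm
  have hconj : ∀ i : ℕ, g ^ i * y * (g ^ i)⁻¹ = w ^ i * y := by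
    intro i
    induction i with
    | zero => simp
    | succ i ih =>
      have h1 : g ^ (i + 1) * y * (g ^ (i + 1))⁻¹ = g * (g ^ i * y * (g ^ i)⁻¹) * g⁻¹ := by
        rw [pow_succ']; group
      rw [h1, ih]
      have h2 : g * (w ^ i * y) * g⁻¹ = (g * w ^ i) * g⁻¹ * (g * y * g⁻¹) := by group
      rw [h2, ((show Commute g w from hgw).pow_right i).eq, hgyg, pow_succ]
      group
  have hfree : ∀ i : ℕ, ¬ Fx V (w ^ i * y) := by
    intro i h
    rw [← hconj i] at h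
    exact hyF (Fx_of_conj d.hc.Vnormal _ h)
  have hyw : y ∉ Subgroup.zpowers w := by
    intro h
    exact hgy (commute_of_mem_zpowers hgw h)
  have hwH : w ∈ H := Cfsg.Agent.Lib.Helper47.pCoreOf_le b H hwB
  obtain ⟨e, he, he1, heF⟩ := d.hT1 d.hc b d.hb w hwH y hy hwo hyb hw hyw
  obtain ⟨i, j, rfl⟩ := mem_closure_pair_comm hw he
  by_cases hyj : y ^ j = 1
  · rw [hyj, mul_one] at he1 heF
    have h1 : w ∈ Subgroup.zpowers (w ^ i) :=
      Cfsg.Agent.Lib.Helper37.FP.mem_zpowers_of_prime_order (by rw [hwo]; exact d.bp)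
        (Subgroup.zpow_mem _ (Subgroup.mem_zpowers w) i) he1
    have h2 : Fx V w := Fx_of_mem_zpowers heF h1
    exact d.m_free (Fx_of_mem_zpowers h2 hmw)
  · have h1 : y ∈ Subgroup.zpowers (y ^ j) :=
      Cfsg.Agent.Lib.Helper37.FP.mem_zpowers_of_prime_order (by rw [hyb]; exact d.bp)
        (Subgroup.zpow_mem _ (Subgroup.mem_zpowers y) j) hyj
    obtain ⟨l, hl⟩ := Subgroup.mem_zpowers_iff.1 h1
    have h2 : Fx V ((w ^ i * y ^ j) ^ l) :=
      Fx_of_mem_zpowers heF (Subgroup.zpow_mem _ (Subgroup.mem_zpowers _) l)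
    have hc1 : Commute (w ^ i) (y ^ j) := (show Commute w y from hw).zpow_zpow i j
    rw [hc1.mul_zpow, hl, ← zpow_mul] at h2
    have h3 : w ^ (i * l) ∈ Submonoid.powers w :=
      (isOfFinOrder_of_finite w).mem_powers_iff_mem_zpowers.2
        (Subgroup.zpow_mem _ (Subgroup.mem_zpowers w) _)
    obtain ⟨k, hk⟩ := (Submonoid.mem_powers_iff _ _).1 h3
    rw [← hk] at h2
    exact hfree k h2

end DCtx

end Cfsg.Agent.Lib.Helper64.FP
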