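import Mathlib
import Cfsg.Agent.Lib.Helper46.FP.Defs
import Cfsg.Agent.Lib.Helper64.FP.Core1
import Cfsg.Agent.Lib.Helper90.BrauerWielandt
import Cfsg.Agent.S3745

/-!
# S3814 team project, package P9: `PkgD` (faithful case, two different prime orders)
-/

set_option autoImplicit false

namespace Cfsg.Agent.Lib.Helper64.FP

open Cfsg.Agent.Lib.Helper46.FP

universe u

section gen

open scoped Pointwise

variable {G : Type u} [Group G]

theorem orderOf_conj' (g x : G) : orderOf (g * x * g⁻¹) = orderOf x :=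
  orderOf_injective (MulAut.conj g).toMonoidHom (MulAut.conj g).injective x

/-- Sylow: a `b`-subgroup `U` of `N` is `N`-conjugate into a `b`-subgroup `S` of `N` of index
prime to `b`. -/
theorem exists_conj_le_of_sylow [Finite G] {b : ℕ} (hb : b.Prime) {N S U : Subgroup G}
    (hUN : U ≤ N) (hS : IsPGroup b S) (hU : IsPGroup b U)
    (hidx : ¬ b ∣ S.relIndex N) : ∃ g ∈ N, ∀ u ∈ U, g * u * g⁻¹ ∈ S := by
  have : Fact b.Prime := ⟨hb⟩
  have hS' : IsPGroup b (S.subgroupOf N) := hS.comap_of_injective N.subtype N.subtype_injective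
  have hU' : IsPGroup b (U.subgroupOf N) := hU.comap_of_injective N.subtype N.subtype_injective
  obtain ⟨P, hP⟩ : ∃ P : Sylow b N, (P : Subgroup N) = S.subgroupOf N :=
    ⟨hS'.toSylow hidx, rfl⟩
  obtain ⟨Q, hQ⟩ := hU'.exists_le_sylow
  obtain ⟨g, hg⟩ := MulAction.exists_smul_eq N Q P
  refine ⟨g, g.2, ?_⟩
  intro u hu
  have h1 : (⟨u, hUN hu⟩ : N) ∈ (Q : Subgroup N) := hQ (Subgroup.mem_subgroupOf.2 hu)
  have h2 : (MulAut.conj g • (⟨u, hUN hu⟩ : N)) ∈ MulAut.conj g • (Q : Subgroup N) :=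
    Subgroup.smul_mem_pointwise_smul _ _ _ h1
  have h3 : (MulAut.conj g • (Q : Subgroup N)) = (P : Subgroup N) := by
    rw [← hg]; rfl
  rw [h3, hP, Subgroup.mem_subgroupOf] at h2
  exact h2

end gen

namespace DCtx

variable {G : Type u} [Group G] {V H : Subgroup G} {t : ℕ} {π : Finset ℕ} {a b c : ℕ}
  {n m za zb : G}

/-- D6: if `e ∈ H` of order `c` commuting with `za` has a nontrivial fixed point on the
`za`-invariant `b`-subgroup `S`, then `e` centralizes `m` (when `O_b(H)` has no `C_b × C_b`). -/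
theorem claim (d : DCtx V H t π a b c n m za zb) (hnoB : NoCC b H) {S : Subgroup G}
    (hSH : S ≤ H) (hSb : IsPGroup b S) (hzaS : ∀ x ∈ S, za * x * za⁻¹ ∈ S) {e : G} (he : e ∈ H)
    (hec : orderOf e = c) (hzae : za * e = e * za) {s : G} (hs : s ∈ S) (hs1 : s ≠ 1)
    (hes : e * s = s * e) : e * m = m * e := by
  have := d.hc.fin
  have : Fact b.Prime := ⟨d.bp⟩
  have : Fact c.Prime := ⟨d.cp⟩
  have : Fact a.Prime := ⟨d.ap⟩
  have hQne : Cfsg.Agent.Lib.Helper24.FP.cIn S e ≠ ⊥ := by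
    intro h
    have h1 : s ∈ Cfsg.Agent.Lib.Helper24.FP.cIn S e :=
      (Cfsg.Agent.Lib.Helper24.FP.mem_cIn S e s).2 ⟨hs, hes⟩
    rw [h, Subgroup.mem_bot] at h1
    exact hs1 h1
  have hQb : IsPGroup b (Cfsg.Agent.Lib.Helper24.FP.cIn S e) :=
    hSb.to_le (Cfsg.Agent.Lib.Helper24.FP.cIn_le S e)
  obtain ⟨w0, hw0, hw01⟩ := Cfsg.Agent.Lib.Helper24.FP.zOf_ne_bot _ b d.bp hQb hQne
  have hw0Q : w0 ∈ Cfsg.Agent.Lib.Helper24.FP.cIn S e :=
    Cfsg.Agent.Lib.Helper24.FP.zOf_le _ hw0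
  obtain ⟨k, hk⟩ := hQb ⟨w0, hw0Q⟩
  have hk' : w0 ^ b ^ k = 1 := by simpa using congrArg Subtype.val hk
  obtain ⟨j, hj⟩ := Cfsg.Agent.Lib.Helper24.FP.exists_pow_orderOf_eq d.bp hw01 k hk'
  obtain ⟨y, hydef⟩ : ∃ y : G, y = w0 ^ j := ⟨_, rfl⟩
  rw [← hydef] at hj
  have hyZ : y ∈ Cfsg.Agent.Lib.Helper24.FP.zOf (Cfsg.Agent.Lib.Helper24.FP.cIn S e) := by
    rw [hydef]; exact Subgroup.pow_mem _ hw0 j
  have hyQ := Cfsg.Agent.Lib.Helper24.FP.zOf_le _ hyZ
  rw [Cfsg.Agent.Lib.Helper24.FP.mem_cIn] at hyQ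
  obtain ⟨hyS, hey⟩ := hyQ
  have hyH : y ∈ H := hSH hyS
  have hycent : ∀ k ∈ Cfsg.Agent.Lib.Helper24.FP.cIn S e, k * y = y * k :=
    ((Cfsg.Agent.Lib.Helper24.FP.mem_zOf _ y).1 hyZ).2
  have heF : Fx V e := d.fixc he hec
  have huniq : ∀ y1 ∈ S, e * y1 = y1 * e → orderOf y1 = b → y1 ∈ Subgroup.zpowers y := by
    intro y1 hy1S hey1 hy1b
    have h1 : y1 * y = y * y1 :=
      hycent y1 ((Cfsg.Agent.Lib.Helper24.FP.mem_cIn S e y1).2 ⟨hy1S, hey1⟩)
    exact d.hC1b d.hc c d.hcπ b d.hb d.hbc.symm e he y hyH y1 (hSH hy1S) hec heF hj hy1b hey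
      hey1 h1.symm
  have hzay : za * y * za⁻¹ ∈ Subgroup.zpowers y := by
    apply huniq _ (hzaS y hyS)
    · have c1 : Commute e za := hzae.symm
      have c2 : Commute e y := hey
      exact ((c1.mul_right c2).mul_right c1.inv_right).eq
    · rw [orderOf_conj']; exact hj
  obtain ⟨-, -, hyF⟩ := d.d2 he hec hyH hj hey
  have hzay' : za * y ≠ y * za := by
    intro h
    exact (d.d2 d.hza d.hzac hyH hj h).1 d.hzan
  have hca : c ∣ a - 1 := by
    by_contra h
    have hcop : c.Coprime (a - 1) := (Nat.Prime.coprime_iff_not_dvd d.cp).2 h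
    have hzbc1 : zb ^ c = 1 := by rw [← d.hzbc]; exact pow_orderOf_eq_one zb
    exact d.hzbn (commute_of_conj_mem_zpowers d.ap d.hna
      (d.hnN.2 zb d.hzb n (Subgroup.mem_zpowers n)) hzbc1 hcop)
  have hAp := Cfsg.Agent.Lib.Helper47.pCoreOf_isPGroup a H
  have hAH := Cfsg.Agent.Lib.Helper47.pCoreOf_le a H
  have hcentA : ∀ x ∈ Cfsg.pCoreOf a H, y * x = x * y := by
    apply d.hY a b c d.ap d.bp d.cp d.hab d.hac d.hbc hca (Cfsg.pCoreOf a H) hAp y za e hj
      d.hzac hec (fun x hx => pCoreOf_conj a hyH hx) (fun x hx => pCoreOf_conj a d.hza hx)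
      (fun x hx => pCoreOf_conj a he hx) hzae hey hzay hzay'
    · intro x hx hex
      by_contra hx1
      obtain ⟨k, hk⟩ := hAp ⟨x, hx⟩
      have hk' : x ^ a ^ k = 1 := by simpa using congrArg Subtype.val hk
      obtain ⟨j', hj'⟩ := Cfsg.Agent.Lib.Helper24.FP.exists_pow_orderOf_eq d.ap hx1 k hk'
      exact d.hC1a d.hc c d.hcπ a d.ha b d.hb d.hac.symm d.hab d.hbc.symm e he (x ^ j')
        (H.pow_mem (hAH hx) j') y hyH hec heF hj' hj
        ((show Commute e x from hex).pow_right j').eq hey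
    · intro e' he' he'1 x hx x' hx' h1 h2 h3 h4 h5
      have he'H : e' ∈ H := closure_pair_le d.hza he he'
      have hzac1 : za ^ c = 1 := by rw [← d.hzac]; exact pow_orderOf_eq_one za
      have hec1 : e ^ c = 1 := by rw [← hec]; exact pow_orderOf_eq_one e
      have he'c : orderOf e' = c :=
        orderOf_eq_prime (closure_pair_props hzae hzac1 hec1 he').1 he'1
      exact d.hC1b d.hc c d.hcπ a d.ha d.hac.symm e' he'H x (hAH hx) x' (hAH hx') he'c
        (d.fixc he'H he'c) h4 h5 h1 h2 h3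
    · intro B' hB'A hB'ab hyB'
      apply d.hT3 d.hc d.hfa b d.hb y hyH hj hyF B' (hB'A.trans hAH) hB'ab ?_ hyB'
      intro hdvd
      obtain ⟨k, hk⟩ := (hAp.to_le hB'A).exists_card_eq
      rw [hk] at hdvd
      exact d.hab ((Nat.prime_dvd_prime_iff_eq d.bp d.ap).1 (d.bp.dvd_of_dvd_pow hdvd)).symm
  have hcentB := d.cent_B hnoB hyH hj hyF
  have hyB : y ∈ Cfsg.pCoreOf b H := by
    have hsol : Group.IsSolvable G := d.hc.solv
    apply fit_tool (inferInstance : Group.IsSolvable H) d.bp hyH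
      (by rw [← hj]; exact pow_orderOf_eq_one y)
    intro q hq x hx
    by_cases hqa : q = a
    · rw [hqa] at hx; exact hcentA x hx
    · by_cases hqb : q = b
      · rw [hqb] at hx; exact hcentB x hx
      · rw [d.core_other hq hqa hqb hx, mul_one, one_mul]
  have hym : y ∈ Subgroup.zpowers m := d.B_order_b hnoB hyB hj
  have hy1 : y ≠ 1 := by
    intro h
    rw [h, orderOf_one] at hj
    exact d.bp.one_lt.ne hj
  have hmy : m ∈ Subgroup.zpowers y :=
    Cfsg.Agent.Lib.Helper37.FP.mem_zpowers_of_prime_order (by rw [d.hmb]; exact d.bp) hym hy1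
  exact commute_of_mem_zpowers hey hmy

/-- D7: the case where `O_b(H)` contains no `C_b × C_b` is impossible. -/
theorem core (d : DCtx V H t π a b c n m za zb) (hnoB : NoCC b H) : False := by
  have hfin := d.hc.fin
  have hsol : Group.IsSolvable G := d.hc.solv
  have : Fact b.Prime := ⟨d.bp⟩
  have : Fact c.Prime := ⟨d.cp⟩
  have hzac1 : za ^ c = 1 := by rw [← d.hzac]; exact pow_orderOf_eq_one za
  have hzbc1 : zb ^ c = 1 := by rw [← d.hzbc]; exact pow_orderOf_eq_one zb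
  obtain ⟨E, hEdef⟩ : ∃ E : Subgroup G, E = Subgroup.closure ({za, zb} : Set G) := ⟨_, rfl⟩
  have hEH : E ≤ H := by rw [hEdef]; exact closure_pair_le d.hza d.hzb
  have hEp : IsPGroup c E := by
    rw [hEdef]
    exact Cfsg.Agent.Lib.Helper90.isPGroup_closure_pair za zb d.hzz hzac1 hzbc1
  have hHN : H ≤ Subgroup.normalizer (NN H n m : Set G) := fun h hh =>
    Cfsg.Agent.Lib.Helper97.FP.mem_normalizer_of_conj_mem _ h (fun x hx => d.NN_conj hh hx)
  have hcop : (Nat.card E).Coprime (Nat.card (NN H n m)) := by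
    obtain ⟨k, hk⟩ := hEp.exists_card_eq
    rw [hk]
    exact Nat.Coprime.pow_left k ((Nat.Prime.coprime_iff_not_dvd d.cp).2 d.NN_card)
  obtain ⟨S, ⟨hSN, hSpi, hSidx⟩, hES⟩ := Cfsg.Agent.S3745.exists_invariant_hall E (NN H n m)
    (hEH.trans hHN) hcop inferInstance ({b} : Set ℕ)
  have hSH : S ≤ H := hSN.trans (NN_le H n m)
  have hSb : IsPGroup b S := by
    have h1 : Nat.card S = b ^ (Nat.card S).primeFactorsList.length :=
      Nat.eq_prime_pow_of_unique_prime_dvd Nat.card_pos.ne'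
        (fun {q} hq hqd => Set.mem_singleton_iff.1 (hSpi q hq hqd))
    exact IsPGroup.of_card h1
  have hzaE : za ∈ E := by rw [hEdef]; exact Subgroup.subset_closure (by simp)
  have hzbE : zb ∈ E := by rw [hEdef]; exact Subgroup.subset_closure (by simp)
  have hzaS : ∀ x ∈ S, za * x * za⁻¹ ∈ S := fun x hx =>
    (Subgroup.mem_normalizer_iff.1 (hES hzaE) x).1 hx
  have hcS : ¬ c ∣ Nat.card S := fun h => d.NN_card (h.trans (Subgroup.card_dvd_of_le hSN))
  have hBW := Cfsg.Agent.Lib.Helper90.brauer_wielandt (p := c) za zb d.hzz hzac1 hzbc1 S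
    (hES hzaE) (hES hzbE) hcS
  unfold Cfsg.Agent.Lib.Helper90.BWFormula at hBW
  have hSza : ∀ x ∈ S, za * x = x * za → x = 1 := by
    intro x hx hcomm
    by_contra hx1
    obtain ⟨k, hk⟩ := hSb ⟨x, hx⟩
    have hk' : x ^ b ^ k = 1 := by simpa using congrArg Subtype.val hk
    obtain ⟨j, hj⟩ := Cfsg.Agent.Lib.Helper24.FP.exists_pow_orderOf_eq d.bp hx1 k hk'
    exact (d.d2 d.hza d.hzac (H.pow_mem (hSH hx) j) hj
      ((show Commute za x from hcomm).pow_right j).eq).1 d.hzan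
  have h1 : Nat.card ↥(S ⊓ Subgroup.centralizer ({za} : Set G)) = 1 := by
    have h0 : S ⊓ Subgroup.centralizer ({za} : Set G) = ⊥ := by
      rw [eq_bot_iff]
      intro x hx
      rw [Subgroup.mem_bot]
      exact hSza x hx.1 (Subgroup.mem_centralizer_singleton_iff.1 hx.2).symm
    rw [h0]; exact Subgroup.card_bot
  have h2 : Nat.card ↥(S ⊓ Subgroup.centralizer ({za, zb} : Set G)) = 1 := by
    have h0 : S ⊓ Subgroup.centralizer ({za, zb} : Set G) = ⊥ := by
      rw [eq_bot_iff]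
      intro x hx
      rw [Subgroup.mem_bot]
      have h00 := (Subgroup.mem_centralizer_iff.1 hx.2) za (by simp)
      exact hSza x hx.1 h00
    rw [h0]; exact Subgroup.card_bot
  have h3 : ∀ i ∈ Finset.range c, i ≠ 0 →
      Nat.card ↥(S ⊓ Subgroup.centralizer ({za ^ i * zb} : Set G)) = 1 := by
    intro i hi hi0
    have hic : i < c := Finset.mem_range.1 hi
    have h0 : S ⊓ Subgroup.centralizer ({za ^ i * zb} : Set G) = ⊥ := by
      rw [eq_bot_iff]
      intro x hx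
      rw [Subgroup.mem_bot]
      by_contra hx1
      have hcomm : (za ^ i * zb) * x = x * (za ^ i * zb) :=
        (Subgroup.mem_centralizer_singleton_iff.1 hx.2).symm
      have heH : za ^ i * zb ∈ H := H.mul_mem (H.pow_mem d.hza i) d.hzb
      have hzai1 : za ^ i ≠ 1 := by
        intro h
        have h5 := orderOf_dvd_of_pow_eq_one h
        rw [d.hzac] at h5
        exact hi0 (Nat.eq_zero_of_dvd_of_lt h5 hic)
      have hzai : za ∈ Subgroup.zpowers (za ^ i) :=
        Cfsg.Agent.Lib.Helper37.FP.mem_zpowers_of_prime_order (by rw [d.hzac]; exact d.cp)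
          (Subgroup.pow_mem _ (Subgroup.mem_zpowers za) i) hzai1
      have he1 : za ^ i * zb ≠ 1 := by
        intro h
        have h5 : zb = (za ^ i)⁻¹ := eq_inv_of_mul_eq_one_right h
        apply d.hzbn
        rw [h5]
        exact (((show Commute za n from d.hzan).pow_left i).inv_left).eq
      have hcz : Commute (za ^ i) zb := (show Commute za zb from d.hzz).pow_left i
      have hec1 : (za ^ i * zb) ^ c = 1 := by
        rw [hcz.mul_pow, ← pow_mul, mul_comm, pow_mul, hzac1, one_pow, hzbc1, mul_one]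
      have hec : orderOf (za ^ i * zb) = c := orderOf_eq_prime hec1 he1
      have hzae : za * (za ^ i * zb) = (za ^ i * zb) * za :=
        (((Commute.refl za).pow_right i).mul_right (show Commute za zb from d.hzz)).eq
      have hem := d.claim hnoB hSH hSb hzaS heH hec hzae hx.1 hx1 hcomm
      have h6 : za ^ i * m = m * za ^ i := by
        have c1 : Commute (za ^ i * zb) m := hem
        have c2 : Commute zb m := d.hzbm
        have h7 : za ^ i = (za ^ i * zb) * zb⁻¹ := by group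
        rw [h7]
        exact (c1.mul_left c2.inv_left).eq
      exact d.hzam (commute_of_mem_zpowers h6.symm hzai).symm
    rw [h0]; exact Subgroup.card_bot
  rw [h1, h2, one_mul, one_pow, mul_one,
    Finset.prod_eq_single 0 h3 (fun h => (h (Finset.mem_range.2 d.cp.pos)).elim), pow_zero,
    one_mul] at hBW
  have hSzb : ∀ x ∈ S, zb * x = x * zb := by
    have hle : S ⊓ Subgroup.centralizer ({zb} : Set G) ≤ S := inf_le_left
    have heq : S ⊓ Subgroup.centralizer ({zb} : Set G) = S :=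
      Subgroup.eq_of_le_of_card_ge hle (le_of_eq hBW.symm)
    intro x hx
    rw [← heq] at hx
    exact (Subgroup.mem_centralizer_singleton_iff.1 hx.2).symm
  obtain ⟨y, hy, hyb, hmy, hym⟩ := d.hc.rank b d.hb m d.hm d.hmb
  have hyN : y ∈ NN H n m := d.NN_of_order_b hy hyb
  have hmN : m ∈ NN H n m := d.NN_of_order_b d.hm d.hmb
  have hmb1 : m ^ b = 1 := by rw [← d.hmb]; exact pow_orderOf_eq_one m
  have hyb1 : y ^ b = 1 := by rw [← hyb]; exact pow_orderOf_eq_one y
  have hUp : IsPGroup b (Subgroup.closure ({m, y} : Set G)) :=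
    Cfsg.Agent.Lib.Helper90.isPGroup_closure_pair m y hmy hmb1 hyb1
  obtain ⟨g, hg, hgU⟩ := exists_conj_le_of_sylow d.bp (closure_pair_le hmN hyN) hSb hUp
    (hSidx b d.bp rfl)
  have hm'S := hgU m (Subgroup.subset_closure (by simp))
  have hy'S := hgU y (Subgroup.subset_closure (by simp))
  have h4 := d.hC1b d.hc c d.hcπ b d.hb d.hbc.symm zb d.hzb (g * m * g⁻¹) (hSH hm'S)
    (g * y * g⁻¹) (hSH hy'S) d.hzbc (d.fixc d.hzb d.hzbc)
    (by rw [orderOf_conj']; exact d.hmb) (by rw [orderOf_conj']; exact hyb) (hSzb _ hm'S)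
    (hSzb _ hy'S)
    (by
      calc g * m * g⁻¹ * (g * y * g⁻¹) = g * (m * y) * g⁻¹ := by group
        _ = g * (y * m) * g⁻¹ := by rw [hmy]
        _ = g * y * g⁻¹ * (g * m * g⁻¹) := by group)
  apply hym
  obtain ⟨k, hk⟩ := Subgroup.mem_zpowers_iff.1 h4
  rw [Subgroup.mem_zpowers_iff]
  refine ⟨k, ?_⟩
  rw [conj_zpow] at hk
  calc m ^ k = g⁻¹ * (g * m ^ k * g⁻¹) * g := by group
    _ = g⁻¹ * (g * y * g⁻¹) * g := by rw [hk]
    _ = y := by group

/-- D4: `O_a(H)` and `O_b(H)` do not both contain a `C_p × C_p`. -/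
theorem both_false (d : DCtx V H t π a b c n m za zb) (hA : ¬ NoCC a H) (hB : ¬ NoCC b H) :
    False := by
  have := d.hc.fin
  have : Fact a.Prime := ⟨d.ap⟩
  have : Fact b.Prime := ⟨d.bp⟩
  unfold NoCC at hA hB
  push Not at hA hB
  obtain ⟨x, hx, x', hx', hxa, hx'a, hxx, hx'x⟩ := hA
  obtain ⟨y, hy, y', hy', hyb, hy'b, hyy, hy'y⟩ := hB
  have hAH := Cfsg.Agent.Lib.Helper47.pCoreOf_le a H
  have hBH := Cfsg.Agent.Lib.Helper47.pCoreOf_le b H
  obtain ⟨u, hu, hu1, huF⟩ := d.hT1 d.hc a d.ha x (hAH hx) x' (hAH hx') hxa hx'a hxx hx'x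
  have huA : u ∈ Cfsg.pCoreOf a H := closure_pair_le hx hx' hu
  have hxa1 : x ^ a = 1 := by rw [← hxa]; exact pow_orderOf_eq_one x
  have hx'a1 : x' ^ a = 1 := by rw [← hx'a]; exact pow_orderOf_eq_one x'
  have hua : orderOf u = a := orderOf_eq_prime (closure_pair_props hxx hxa1 hx'a1 hu).1 hu1
  have hd : Disjoint (Cfsg.pCoreOf a H) (Cfsg.pCoreOf b H) :=
    IsPGroup.disjoint_of_ne a b d.hab _ _ (Cfsg.Agent.Lib.Helper47.pCoreOf_isPGroup a H)
      (Cfsg.Agent.Lib.Helper47.pCoreOf_isPGroup b H)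
  have hcomm : ∀ z ∈ Cfsg.pCoreOf b H, u * z = z * u := fun z hz =>
    commute_of_disjoint_norm hd huA hz (fun k hk => pCoreOf_conj a (hBH hz) hk)
      (fun k hk => pCoreOf_conj b (hAH huA) hk)
  exact hy'y (d.hC1b d.hc a d.ha b d.hb d.hab u (hAH huA) y (hBH hy) y' (hBH hy') hua huF hyb
    hy'b (hcomm y hy) (hcomm y' hy') hyy)

end DCtx

/-- **Package P9 of S3814**: the faithful case with normal subgroups of two different prime
orders is impossible. -/
theorem pkgD : Cfsg.Agent.Lib.Helper46.FP.PkgD.{u} := by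
  intro _hF hT1 hC1a hC1b hT3 hM hNF hY G _ V H t π hc hfa h2p
  obtain ⟨n, hn, m, hm, hnp, hmp, hne, hnN, hmN⟩ := h2p
  have hfin := hc.fin
  have hdvd : ∀ x ∈ H, orderOf x ∣ Nat.card H := by
    intro x hx
    have h1 : orderOf (⟨x, hx⟩ : H) = orderOf x := by rw [← Subgroup.orderOf_coe]
    rw [← h1]; exact orderOf_dvd_natCard _
  have ha : orderOf n ∈ π := hc.Hpi _ hnp (hdvd n hn)
  have hb : orderOf m ∈ π := hc.Hpi _ hmp (hdvd m hm)
  obtain ⟨c, hcπ, hca, hcb⟩ : ∃ c ∈ π, c ≠ orderOf n ∧ c ≠ orderOf m := by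
    have h1 : ((π.erase (orderOf n)).erase (orderOf m)).card = 1 := by
      rw [Finset.card_erase_of_mem (Finset.mem_erase.2 ⟨hne.symm, hb⟩),
        Finset.card_erase_of_mem ha, hc.card3]
    obtain ⟨c, hc'⟩ := Finset.card_pos.1 (by rw [h1]; exact Nat.one_pos)
    rw [Finset.mem_erase, Finset.mem_erase] at hc'
    exact ⟨c, hc'.2.2, hc'.2.1, hc'.1⟩
  have hcp := hc.piprime c hcπ
  have : Fact c.Prime := ⟨hcp⟩
  obtain ⟨g, hg, hgo⟩ := hc.pair (orderOf n) ha c hcπ hca.symm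
  obtain ⟨z1, hz1, hz1c⟩ : ∃ z1 ∈ H, orderOf z1 = c := by
    refine ⟨g ^ (orderOf g / c), H.pow_mem hg _, ?_⟩
    exact orderOf_pow_orderOf_div (orderOf_pos g).ne' (by rw [hgo]; exact dvd_mul_left c _)
  obtain ⟨z2, hz2, hz2c, hz12, hz2z1⟩ := hc.rank c hcπ z1 hz1 hz1c
  have hz1c1 : z1 ^ c = 1 := by rw [← hz1c]; exact pow_orderOf_eq_one z1
  have hz2c1 : z2 ^ c = 1 := by rw [← hz2c]; exact pow_orderOf_eq_one z2
  have hnm : n * m = m * n := by
    have hd : Disjoint (Subgroup.zpowers n) (Subgroup.zpowers m) := by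
      apply Subgroup.disjoint_of_coprime_natCard
      rw [Nat.card_zpowers, Nat.card_zpowers]
      exact (Nat.coprime_primes hnp hmp).2 hne
    exact commute_of_disjoint_norm hd (Subgroup.mem_zpowers n) (Subgroup.mem_zpowers m)
      (hnN.2 m hm) (hmN.2 n hn)
  have key : ∀ (k : G), k ∈ H → (orderOf k).Prime → c ≠ orderOf k →
      NormIn (Subgroup.zpowers k) H →
      ∃ e ∈ Subgroup.closure ({z1, z2} : Set G), e ≠ 1 ∧ e * k = k * e := by
    intro k hk hkp hck hkN
    have hk1 : k ≠ 1 := by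
      intro h
      rw [h, orderOf_one] at hkp
      exact Nat.not_prime_one hkp
    have hW : Subgroup.zpowers k ≠ ⊥ := by
      intro h
      have h1 : k ∈ Subgroup.zpowers k := Subgroup.mem_zpowers k
      rw [h, Subgroup.mem_bot] at h1
      exact hk1 h1
    have hcW : ¬ c ∣ Nat.card (Subgroup.zpowers k) := by
      rw [Nat.card_zpowers]
      intro h
      exact hck ((Nat.prime_dvd_prime_iff_eq hcp hkp).1 h)
    obtain ⟨e, he, he1, w, hw, hw1, hew⟩ := Cfsg.Agent.Lib.Helper97.FP.tool_T1 c hcp z1 z2 hz1c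
      hz2c hz12 hz2z1 (Subgroup.zpowers k) hW hcW (hkN.2 z1 hz1) (hkN.2 z2 hz2)
    exact ⟨e, he, he1, commute_of_mem_zpowers hew
      (Cfsg.Agent.Lib.Helper37.FP.mem_zpowers_of_prime_order hkp hw hw1)⟩
  obtain ⟨za, hzaE, hza1, hzan⟩ := key n hn hnp hca hnN
  obtain ⟨zb, hzbE, hzb1, hzbm⟩ := key m hm hmp hcb hmN
  have hzaH : za ∈ H := closure_pair_le hz1 hz2 hzaE
  have hzbH : zb ∈ H := closure_pair_le hz1 hz2 hzbE
  have hzac : orderOf za = c :=
    orderOf_eq_prime (closure_pair_props hz12 hz1c1 hz2c1 hzaE).1 hza1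
  have hzbc : orderOf zb = c :=
    orderOf_eq_prime (closure_pair_props hz12 hz1c1 hz2c1 hzbE).1 hzb1
  have hzam : za * m ≠ m * za := fun h =>
    Cfsg.Agent.Lib.Helper24.FP.no_triple_commuting hc ha hb hcπ hne hcb.symm hca.symm n m za
      rfl rfl hzac hnm hzan.symm h.symm
  have hzbn : zb * n ≠ n * zb := fun h =>
    Cfsg.Agent.Lib.Helper24.FP.no_triple_commuting hc ha hb hcπ hne hcb.symm hca.symm n m zb
      rfl rfl hzbc hnm h.symm hzbm.symm
  have d : DCtx V H t π (orderOf n) (orderOf m) c n m za zb :=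
    { hc := hc, hfa := hfa, hT1 := hT1, hC1a := hC1a, hC1b := hC1b, hT3 := hT3, hM := hM,
      hNF := hNF, hY := hY, ha := ha, hb := hb, hcπ := hcπ, hab := hne, hac := hca.symm,
      hbc := hcb.symm, hn := hn, hm := hm, hna := rfl, hmb := rfl, hnN := hnN, hmN := hmN,
      hza := hzaH, hzb := hzbH, hzac := hzac, hzbc := hzbc,
      hzz := closure_pair_comm hz12 hzaE hzbE, hzan := hzan, hzbm := hzbm, hzam := hzam,
      hzbn := hzbn }
  by_cases hB : NoCC (orderOf m) H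
  · exact d.core hB
  · by_cases hA : NoCC (orderOf n) H
    · exact d.symm.core hA
    · exact d.both_false hA hB

end Cfsg.Agent.Lib.Helper64.FP
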